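/-
helper86: project DSQW (S5248, helper84) - module [MC-RIGID].
In a group with `MC` data (dihedral / generalized quaternion / quasi-dihedral), a group of automorphisms of the
four-group `⟨z, w⟩` (resp. of the quaternion group `⟨c, w⟩`) that contains the automorphisms induced by the whole
group and is not a 2-group is the full automorphism group.
-/
import Mathlib
import Cfsg.Agent.Lib.Helper84.DSQW.MCBasic
import Cfsg.Agent.Lib.Helper20.NCPerm
import Cfsg.Agent.Lib.Helper87.FusionCore

set_option autoImplicit false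

namespace Cfsg.Agent.Lib.Helper86.DSQW

open Cfsg Cfsg.FusionSystem Cfsg.Agent.Lib.Helper84.DSQW Cfsg.Agent.Lib.Helper20.QD

/-! ### Generic lemmas -/

/-- a subgroup generated by `a` and an element `w` normalizing `⟨a⟩` with `w² ∈ ⟨a⟩` is `⟨a⟩ ∪ ⟨a⟩ w` -/
theorem mem_closure_pair {G : Type*} [Group G] (a w : G) (h1 : w * a * w⁻¹ ∈ Subgroup.zpowers a)
    (h2 : w⁻¹ * a * w ∈ Subgroup.zpowers a) (h3 : w * w ∈ Subgroup.zpowers a) (u : G) :
    u ∈ Subgroup.closure {a, w} ↔ u ∈ Subgroup.zpowers a ∨ u * w⁻¹ ∈ Subgroup.zpowers a := by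
  have c1 : ∀ v ∈ Subgroup.zpowers a, w * v * w⁻¹ ∈ Subgroup.zpowers a := by
    rintro v ⟨k, rfl⟩
    have : w * a ^ k * w⁻¹ = (w * a * w⁻¹) ^ k := by rw [conj_zpow]
    rw [this]; exact Subgroup.zpow_mem _ h1 k
  have c2 : ∀ v ∈ Subgroup.zpowers a, w⁻¹ * v * w ∈ Subgroup.zpowers a := by
    rintro v ⟨k, rfl⟩
    have : w⁻¹ * a ^ k * w = (w⁻¹ * a * w) ^ k := by
      have := conj_zpow (a := w⁻¹) (b := a) (i := k)
      rw [inv_inv] at this; exact this.symm
    rw [this]; exact Subgroup.zpow_mem _ h2 k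
  constructor
  · intro hu
    induction hu using Subgroup.closure_induction with
    | mem v hv =>
      rcases hv with rfl | rfl
      · left; exact Subgroup.mem_zpowers _
      · right; rw [mul_inv_cancel]; exact Subgroup.one_mem _
    | one => left; exact Subgroup.one_mem _
    | mul u v _ _ hu hv =>
      rcases hu with hu | hu <;> rcases hv with hv | hv
      · left; exact Subgroup.mul_mem _ hu hv
      · right; rw [mul_assoc]; exact Subgroup.mul_mem _ hu hv
      · right
        have : u * v * w⁻¹ = (u * w⁻¹) * (w * v * w⁻¹) := by group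
        rw [this]; exact Subgroup.mul_mem _ hu (c1 v hv)
      · left
        have : u * v = (u * w⁻¹) * (w * (v * w⁻¹) * w⁻¹) * (w * w) := by group
        rw [this]; exact Subgroup.mul_mem _ (Subgroup.mul_mem _ hu (c1 _ hv)) h3
    | inv u _ hu =>
      rcases hu with hu | hu
      · left; exact Subgroup.inv_mem _ hu
      · right
        have : u⁻¹ * w⁻¹ = (w⁻¹ * (u * w⁻¹)⁻¹ * w) * (w * w)⁻¹ := by group
        rw [this]
        exact Subgroup.mul_mem _ (c2 _ (Subgroup.inv_mem _ hu)) (Subgroup.inv_mem _ h3)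
  · rintro (hu | hu)
    · exact (Subgroup.zpowers_le.2 (Subgroup.subset_closure (by simp))) hu
    · have : u = (u * w⁻¹) * w := by group
      rw [this]
      exact Subgroup.mul_mem _ ((Subgroup.zpowers_le.2 (Subgroup.subset_closure (by simp))) hu)
        (Subgroup.subset_closure (by simp))

/-- a group of automorphisms that is not a 2-group has order at least three times the order of any 2-subgroup -/
theorem three_mul_card_le {A : Type*} [Group A] [Finite A] (K U : Subgroup A) (hUK : U ≤ K) (hU : IsPGroup 2 U)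
    (hK : ¬ IsPGroup 2 K) : 3 * Nat.card U ≤ Nat.card K := by
  haveI : Fact (Nat.Prime 2) := ⟨Nat.prime_two⟩
  have hU' : IsPGroup 2 (U.subgroupOf K) := hU.of_equiv (Subgroup.subgroupOfEquivOfLe hUK).symm
  obtain ⟨P, hP⟩ := hU'.exists_le_sylow
  have hc1 : Nat.card U ≤ Nat.card (P : Subgroup K) := by
    rw [← Nat.card_congr (Subgroup.subgroupOfEquivOfLe hUK).toEquiv]
    exact Subgroup.card_le_of_le hP
  have hc2 : Nat.card (P : Subgroup K) * (P : Subgroup K).index = Nat.card K := Subgroup.card_mul_index _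
  have hodd : ¬ 2 ∣ (P : Subgroup K).index := Sylow.not_dvd_index P
  have hne1 : (P : Subgroup K).index ≠ 1 := by
    intro h1
    rw [Subgroup.index_eq_one] at h1
    apply hK
    have hP2 : IsPGroup 2 (P : Subgroup K) := P.isPGroup'
    rw [h1] at hP2
    exact hP2.of_equiv Subgroup.topEquiv
  have hne0 : (P : Subgroup K).index ≠ 0 := Subgroup.index_ne_zero_of_finite
  have h3 : 3 ≤ (P : Subgroup K).index := by omega
  calc 3 * Nat.card U ≤ (P : Subgroup K).index * Nat.card (P : Subgroup K) :=
        Nat.mul_le_mul h3 hc1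
    _ = Nat.card K := by rw [mul_comm, hc2]

/-- the automorphisms induced by a finite 2-group form a 2-group -/
theorem isPGroup_autInducedBy {X : Type*} [Group X] [Finite X] (hX : IsPGroup 2 X) (E : Subgroup X) :
    IsPGroup 2 (autInducedBy ⊤ E) := by
  rintro ⟨α, hα⟩
  obtain ⟨g, -, hg⟩ := Cfsg.Agent.Lib.Helper87.mem_autInducedBy_iff.1 hα
  obtain ⟨k, hk⟩ := hX g
  refine ⟨k, ?_⟩
  apply Subtype.ext
  show α ^ 2 ^ k = 1
  have hpow : ∀ m : ℕ, ∀ u : E, (((α ^ m) u : E) : X) = g ^ m * (u : X) * (g ^ m)⁻¹ := by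
    intro m
    induction m with
    | zero => intro u; simp
    | succ m ih =>
      intro u
      rw [pow_succ, MulAut.mul_apply, ih, hg, pow_succ]
      group
  ext u
  rw [hpow, hk]
  simp


/-- a subgroup normalized by `g`: the induced automorphism lies in `autInducedBy ⊤ E` -/
theorem normalizerHom_mem_autInducedBy {X : Type*} [Group X] (E : Subgroup X) (g : X)
    (hg : g ∈ Subgroup.normalizer (E : Set X)) :
    E.normalizerMonoidHom ⟨g, hg⟩ ∈ autInducedBy ⊤ E :=
  Cfsg.Agent.Lib.Helper87.mem_autInducedBy_iff.2 ⟨g, Subgroup.mem_top g, fun _ => rfl⟩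

theorem normalizerHom_coe {X : Type*} [Group X] (E : Subgroup X) (g : X)
    (hg : g ∈ Subgroup.normalizer (E : Set X)) (u : E) :
    ((E.normalizerMonoidHom ⟨g, hg⟩ u : E) : X) = g * (u : X) * g⁻¹ := rfl

/-- `g` normalizes `closure {a, b}` if it maps the generators to generators of the same subgroup -/
theorem mem_normalizer_closure_pair {X : Type*} [Group X] (a b g : X)
    (h : Subgroup.closure {g * a * g⁻¹, g * b * g⁻¹} = Subgroup.closure {a, b}) :
    g ∈ Subgroup.normalizer ((Subgroup.closure {a, b} : Subgroup X) : Set X) := by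
  rw [Subgroup.mem_normalizer_iff_map_conj_eq, MonoidHom.map_closure]
  rw [← h]
  congr 1
  ext v
  simp only [Set.mem_image, Set.mem_insert_iff, Set.mem_singleton_iff]
  constructor
  · rintro ⟨u, rfl | rfl, rfl⟩
    · left; rfl
    · right; rfl
  · rintro (rfl | rfl)
    · exact ⟨a, Or.inl rfl, rfl⟩
    · exact ⟨b, Or.inr rfl, rfl⟩

/-- a group of order at most 8 generated by an element `c` of order 4 and an element `w ∉ ⟨c⟩`, with an element `z ≠ 1` of
order at most 2, has at most 24 automorphisms -/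
theorem card_mulAut_le_of_gen {E : Type*} [Group E] [Finite E] (hE : Nat.card E ≤ 8) (c w z : E)
    (hz1 : z ≠ 1) (hz2 : z * z = 1) (hc : orderOf c = 4) (hw : w ∉ Subgroup.zpowers c)
    (hgen : Subgroup.closure {c, w} = ⊤) : Nat.card (MulAut E) ≤ 24 := by
  classical
  letI : Fintype E := Fintype.ofFinite E
  have hE' : Fintype.card E ≤ 8 := by rw [← Nat.card_eq_fintype_card]; exact hE
  let S : Finset (E × E) :=
    Finset.univ.filter (fun p => orderOf p.1 = 4 ∧ p.2 ∉ Subgroup.zpowers p.1)
  have hmem : ∀ α : MulAut E, (α c, α w) ∈ S := by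
    intro α
    simp only [S, Finset.mem_filter, Finset.mem_univ, true_and]
    refine ⟨by rw [MulEquiv.orderOf_eq α c, hc], ?_⟩
    intro hm
    obtain ⟨k, hk⟩ := Subgroup.mem_zpowers_iff.1 hm
    apply hw
    rw [Subgroup.mem_zpowers_iff]
    refine ⟨k, α.injective ?_⟩
    rw [map_zpow, hk]
  have hinj : Function.Injective (fun α : MulAut E => (⟨(α c, α w), hmem α⟩ : S)) := by
    intro α β hab
    have h1 : α c = β c := congrArg (fun p : S => p.1.1) hab
    have h2 : α w = β w := congrArg (fun p : S => p.1.2) hab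
    have : α.toMonoidHom = β.toMonoidHom := by
      apply MonoidHom.eq_of_eqOn_dense hgen
      rintro u (rfl | rfl)
      · exact h1
      · exact h2
    ext u
    exact DFunLike.congr_fun this u
  have h1 : Nat.card (MulAut E) ≤ S.card := by
    have := Nat.card_le_card_of_injective _ hinj
    rwa [Nat.card_eq_fintype_card (α := S), Fintype.card_coe] at this
  -- count
  let T : Finset E := Finset.univ.filter (fun u => orderOf u = 4)
  have hT : T.card ≤ 6 := by
    have hsub : T ⊆ Finset.univ \ {1, z} := by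
      intro u hu
      simp only [T, Finset.mem_filter, Finset.mem_univ, true_and] at hu
      simp only [Finset.mem_sdiff, Finset.mem_univ, Finset.mem_insert, Finset.mem_singleton, true_and]
      rintro (rfl | rfl)
      · rw [orderOf_one] at hu; omega
      · have : orderOf u ∣ 2 := orderOf_dvd_of_pow_eq_one (by rw [pow_two, hz2])
        rw [hu] at this; omega
    have := Finset.card_le_card hsub
    rw [Finset.card_sdiff_of_subset (Finset.subset_univ _), Finset.card_univ,
      Finset.card_pair (Ne.symm hz1)] at this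
    omega
  have hfib : ∀ u ∈ T, (S.filter (fun p => p.1 = u)).card ≤ 4 := by
    intro u hu
    simp only [T, Finset.mem_filter, Finset.mem_univ, true_and] at hu
    have hle : (S.filter (fun p => p.1 = u)).card ≤
        (Finset.univ.filter (fun v : E => v ∉ Subgroup.zpowers u)).card := by
      apply Finset.card_le_card_of_injOn Prod.snd
      · intro p hp
        simp only [S, Finset.coe_filter, Finset.mem_filter, Finset.mem_univ, true_and, Set.mem_ofPred_eq] at hp ⊢
        rw [← hp.2]; exact hp.1.2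
      · intro p hp q hq hpq
        simp only [Finset.coe_filter, Set.mem_ofPred_eq] at hp hq
        exact Prod.ext (hp.2.trans hq.2.symm) hpq
    have hcompl : (Finset.univ.filter (fun v : E => v ∉ Subgroup.zpowers u)).card ≤ 4 := by
      have h2 : (Finset.univ.filter (fun v : E => v ∈ Subgroup.zpowers u)).card = 4 := by
        rw [← Fintype.card_subtype, ← hu, ← Nat.card_zpowers, Nat.card_eq_fintype_card]
      have := Finset.card_filter_add_card_filter_not (s := (Finset.univ : Finset E))
        (fun v : E => v ∈ Subgroup.zpowers u)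
      rw [h2, Finset.card_univ] at this
      omega
    omega
  have h2 : S.card ≤ 24 := by
    have hmaps : ∀ p ∈ S, p.1 ∈ T := by
      intro p hp
      simp only [S, T, Finset.mem_filter, Finset.mem_univ, true_and] at hp ⊢
      exact hp.1
    rw [Finset.card_eq_sum_card_fiberwise hmaps]
    calc ∑ b ∈ T, (S.filter (fun a => a.1 = b)).card ≤ ∑ _b ∈ T, 4 := Finset.sum_le_sum hfib
      _ = T.card * 4 := by rw [Finset.sum_const, smul_eq_mul]
      _ ≤ 24 := by omega
  omega

section mc

variable {X : Type*} [Group X] {x y : X} {n η δ : ℕ}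

theorem isPGroup_of_mc (h : MC x y n η δ) : IsPGroup 2 X :=
  IsPGroup.of_card h.card

theorem z_mul_z (h : MC x y n η δ) : pw x n (hf n) * pw x n (hf n) = 1 := by
  rw [← h.pw_add, h.hf_add_hf, h.pw_zero]

theorem z_ne_one (h : MC x y n η δ) : pw x n (hf n) ≠ 1 := by
  rw [Ne, h.pw_eq_one_iff]; exact hf_ne_zero h.one_le_n

theorem z_conj (h : MC x y n η δ) (s : X) : s * pw x n (hf n) * s⁻¹ = pw x n (hf n) := by
  rw [h.z_central s]; group

theorem mem_zpowers_z (h : MC x y n η δ) (u : X) :
    u ∈ Subgroup.zpowers (pw x n (hf n)) ↔ u = 1 ∨ u = pw x n (hf n) := by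
  constructor
  · intro hu
    obtain ⟨k, rfl⟩ := Subgroup.mem_zpowers_iff.1 hu
    rcases Int.even_or_odd' k with ⟨m, rfl | rfl⟩
    · left
      rw [zpow_mul, zpow_two, z_mul_z h, one_zpow]
    · right
      rw [zpow_add, zpow_mul, zpow_two, z_mul_z h, one_zpow, one_mul, zpow_one]
  · rintro (rfl | rfl)
    · exact Subgroup.one_mem _
    · exact Subgroup.mem_zpowers _

/-- the elements of the four-group `⟨z, w⟩` -/
theorem mem_four (h : MC x y n η δ) (w : X) (hw2 : w * w = 1) (u : X) :
    u ∈ Subgroup.closure {pw x n (hf n), w} ↔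
      u = 1 ∨ u = pw x n (hf n) ∨ u = w ∨ u = pw x n (hf n) * w := by
  have hinv : w⁻¹ = w := inv_eq_of_mul_eq_one_right hw2
  rw [mem_closure_pair _ _ (by rw [z_conj h]; exact Subgroup.mem_zpowers _)
    (by have := z_conj h w⁻¹; rw [inv_inv] at this; rw [this]; exact Subgroup.mem_zpowers _)
    (by rw [hw2]; exact Subgroup.one_mem _), mem_zpowers_z h, mem_zpowers_z h, hinv]
  constructor
  · rintro ((h1 | h1) | (h1 | h1))
    · exact Or.inl h1
    · exact Or.inr (Or.inl h1)
    · right; right; left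
      calc u = u * w * w := by rw [mul_assoc, hw2, mul_one]
        _ = w := by rw [h1, one_mul]
    · right; right; right
      calc u = u * w * w := by rw [mul_assoc, hw2, mul_one]
        _ = _ := by rw [h1]
  · rintro (h1 | h1 | h1 | h1)
    · exact Or.inl (Or.inl h1)
    · exact Or.inl (Or.inr h1)
    · right; left; rw [h1, hw2]
    · right; right; rw [h1, mul_assoc, hw2, mul_one]

theorem card_four (h : MC x y n η δ) (w : X) (hw : w ∉ Subgroup.zpowers x) (hw2 : w * w = 1) :
    Nat.card (Subgroup.closure {pw x n (hf n), w}) = 4 := by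
  classical
  have hz1 := z_ne_one h
  have hzx : pw x n (hf n) ∈ Subgroup.zpowers x := MC.pw_mem _
  have hset : ((Subgroup.closure {pw x n (hf n), w} : Subgroup X) : Set X) =
      {1, pw x n (hf n), w, pw x n (hf n) * w} := by
    ext u
    rw [SetLike.mem_coe, mem_four h w hw2]
    simp only [Set.mem_insert_iff, Set.mem_singleton_iff]
  have hw1 : w ≠ 1 := fun hh => hw (by rw [hh]; exact Subgroup.one_mem _)
  have hwz : w ≠ pw x n (hf n) := fun hh => hw (by rw [hh]; exact hzx)
  have hzw : pw x n (hf n) * w ∉ Subgroup.zpowers x := by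
    intro hh
    exact hw ((Subgroup.mul_mem_cancel_left _ hzx).1 hh)
  have hzw1 : pw x n (hf n) * w ≠ 1 := fun hh => hzw (by rw [hh]; exact Subgroup.one_mem _)
  have hzwz : pw x n (hf n) * w ≠ pw x n (hf n) := fun hh => hzw (by rw [hh]; exact hzx)
  have hzww : pw x n (hf n) * w ≠ w := by
    intro hh
    apply hz1
    have := congrArg (· * w) hh
    simp only [mul_assoc, hw2, mul_one] at this
    exact this
  change Nat.card (((Subgroup.closure {pw x n (hf n), w} : Subgroup X) : Set X)) = 4
  rw [Nat.card_coe_set_eq, hset]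
  rw [Set.ncard_insert_of_notMem, Set.ncard_insert_of_notMem, Set.ncard_insert_of_notMem,
    Set.ncard_singleton]
  · simp only [Set.mem_singleton_iff]; exact fun hh => hzww hh.symm
  · simp only [Set.mem_insert_iff, Set.mem_singleton_iff]
    rintro (hh | hh)
    · exact hwz hh.symm
    · exact hzwz hh.symm
  · simp only [Set.mem_insert_iff, Set.mem_singleton_iff]
    rintro (hh | hh | hh)
    · exact hz1 hh.symm
    · exact hw1 hh.symm
    · exact hzw1 hh.symm

/-- conjugation by `c = x^(2^(n-2))` maps an outside element `w` to `z w` -/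
theorem c_conj_out (h : MC x y n η δ) (w : X) (hw : w ∉ Subgroup.zpowers x) :
    pw x n (qt n) * w * (pw x n (qt n))⁻¹ = pw x n (hf n) * w := by
  obtain ⟨j, rfl⟩ := (h.not_mem_iff w).1 hw
  rw [h.conj_pw_pwy, h.pw_mul_pwy]
  congr 2
  have h2 := two_mul_qt h.hn
  rcases h.eta_cases with rfl | rfl
  · simp only [Nat.cast_zero, zero_mul, sub_zero]
    rw [h2]; ring
  · have h3 := hf_mul_qt (h.hsd rfl).2
    simp only [Nat.cast_one, one_mul]
    linear_combination h2 - h3

theorem four_core (h : MC x y n η δ) (w : X) (hw : w ∉ Subgroup.zpowers x) (hw2 : w * w = 1)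
    (E : Subgroup X) (hE : E = Subgroup.closure {pw x n (hf n), w})
    (K : Subgroup (MulAut E)) (hU : autInducedBy ⊤ E ≤ K) (hK : ¬ IsPGroup 2 K) : K = ⊤ := by
  haveI := h.finite
  have hcard : Nat.card E = 4 := by rw [hE]; exact card_four h w hw hw2
  haveI : Finite E := Nat.finite_of_card_ne_zero (by rw [hcard]; norm_num)
  have hzE : pw x n (hf n) ∈ E := by rw [hE]; exact Subgroup.subset_closure (Set.mem_insert _ _)
  have hwE : w ∈ E := by
    rw [hE]; exact Subgroup.subset_closure (Set.mem_insert_of_mem _ (Set.mem_singleton _))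
  -- the automorphism group has order at most 6
  have hA : Nat.card (MulAut E) ≤ 6 := by
    rw [← Cfsg.Agent.Lib.Helper20.card_perm_ne_one_of_card_four E hcard]
    exact Nat.card_le_card_of_injective _ (Cfsg.Agent.Lib.Helper20.autToPerm_injective E)
  -- conjugation by c is a nontrivial element of U
  have hcn : pw x n (qt n) ∈ Subgroup.normalizer (E : Set X) := by
    rw [hE]
    apply mem_normalizer_closure_pair
    rw [z_conj h, c_conj_out h w hw]
    apply le_antisymm
    · rw [Subgroup.closure_le]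
      rintro v (rfl | rfl)
      · exact Subgroup.subset_closure (Set.mem_insert _ _)
      · exact Subgroup.mul_mem _ (Subgroup.subset_closure (Set.mem_insert _ _))
          (Subgroup.subset_closure (Set.mem_insert_of_mem _ (Set.mem_singleton _)))
    · rw [Subgroup.closure_le]
      intro v hv
      rcases hv with hv | hv
      · rw [hv]; exact Subgroup.subset_closure (Set.mem_insert _ _)
      · have hv' : v = pw x n (hf n) * (pw x n (hf n) * w) := by
          rw [← mul_assoc, z_mul_z h, one_mul]; exact hv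
        rw [SetLike.mem_coe, hv']
        exact Subgroup.mul_mem _ (Subgroup.subset_closure (Set.mem_insert _ _))
          (Subgroup.subset_closure (Set.mem_insert_of_mem _ (Set.mem_singleton _)))
  have hU2 : 2 ≤ Nat.card (autInducedBy ⊤ E) := by
    have hne : (autInducedBy ⊤ E) ≠ ⊥ := by
      intro hbot
      have hm := normalizerHom_mem_autInducedBy E _ hcn
      rw [hbot, Subgroup.mem_bot] at hm
      have := congrArg (fun α : MulAut E => ((α ⟨w, hwE⟩ : E) : X)) hm
      simp only [normalizerHom_coe, MulAut.one_apply] at this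
      rw [c_conj_out h w hw] at this
      apply z_ne_one h
      have h2 := congrArg (· * w) this
      simp only [mul_assoc, hw2, mul_one] at h2
      exact h2
    have := (Subgroup.one_lt_card_iff_ne_bot (autInducedBy ⊤ E)).2 hne
    omega
  have h3 := three_mul_card_le K (autInducedBy ⊤ E) hU (isPGroup_autInducedBy (isPGroup_of_mc h) E) hK
  exact Subgroup.eq_top_of_le_card K (by omega)

theorem MC.eq_top_of_four (h : MC x y n η δ) (w : X) (hw : w ∉ Subgroup.zpowers x) (hw2 : w * w = 1)
    (K : Subgroup (MulAut ↥(Subgroup.closure {x ^ 2 ^ (n - 1), w})))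
    (hU : autInducedBy ⊤ (Subgroup.closure {x ^ 2 ^ (n - 1), w}) ≤ K) (hK : ¬ IsPGroup 2 K) : K = ⊤ :=
  four_core h w hw hw2 _ (by rw [h.pw_hf]) K hU hK


/-! ### The quaternion case -/

theorem c_mul_c (h : MC x y n η δ) : pw x n (qt n) * pw x n (qt n) = pw x n (hf n) := by
  rw [← h.pw_add]; congr 1
  have := two_mul_qt h.hn
  linear_combination this

/-- an outside element inverts `c = x^(2^(n-2))` when `n ≥ 3` -/
theorem out_conj_c (h : MC x y n η δ) (hn : 3 ≤ n) (w : X) (hw : w ∉ Subgroup.zpowers x) :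
    w * pw x n (qt n) * w⁻¹ = (pw x n (qt n))⁻¹ := by
  obtain ⟨j, rfl⟩ := (h.not_mem_iff w).1 hw
  rw [h.conj_pwy_pw, ← h.pw_neg]
  congr 1
  have h3 := hf_mul_qt hn
  unfold ee
  linear_combination (η : ZMod (2 ^ n)) * h3

theorem out_conj_c' (h : MC x y n η δ) (hn : 3 ≤ n) (w : X) (hw : w ∉ Subgroup.zpowers x) :
    w⁻¹ * pw x n (qt n) * w = (pw x n (qt n))⁻¹ := by
  have hw' : w⁻¹ ∉ Subgroup.zpowers x := fun hh => hw ((Subgroup.inv_mem_iff _).1 hh)
  have := out_conj_c h hn w⁻¹ hw'
  rwa [inv_inv] at this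

theorem orderOf_c (h : MC x y n η δ) : orderOf (pw x n (qt n)) = 4 := by
  have h1 : ¬ (pw x n (qt n)) ^ 2 ^ 1 = 1 := by
    rw [pow_one, pow_two, c_mul_c h]; exact z_ne_one h
  have h2 : (pw x n (qt n)) ^ 2 ^ (1 + 1) = 1 := by
    have : (pw x n (qt n)) ^ 2 ^ (1 + 1) = (pw x n (qt n) * pw x n (qt n)) * (pw x n (qt n) * pw x n (qt n)) := by
      norm_num; rw [pow_succ, pow_succ, pow_succ, pow_one]; group
    rw [this, c_mul_c h, z_mul_z h]
  have := orderOf_eq_prime_pow h1 h2
  rw [this]; norm_num

theorem z_mem_zpowers_c (h : MC x y n η δ) : pw x n (hf n) ∈ Subgroup.zpowers (pw x n (qt n)) := by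
  rw [← c_mul_c h]
  exact Subgroup.mul_mem _ (Subgroup.mem_zpowers _) (Subgroup.mem_zpowers _)

/-- membership in the quaternion group `⟨c, w⟩` -/
theorem mem_quat (h : MC x y n η δ) (hn : 3 ≤ n) (w : X) (hw : w ∉ Subgroup.zpowers x)
    (hw2 : w * w = pw x n (hf n)) (u : X) :
    u ∈ Subgroup.closure {pw x n (qt n), w} ↔
      u ∈ Subgroup.zpowers (pw x n (qt n)) ∨ u * w⁻¹ ∈ Subgroup.zpowers (pw x n (qt n)) := by
  apply mem_closure_pair
  · rw [out_conj_c h hn w hw]; exact Subgroup.inv_mem _ (Subgroup.mem_zpowers _)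
  · rw [out_conj_c' h hn w hw]; exact Subgroup.inv_mem _ (Subgroup.mem_zpowers _)
  · rw [hw2]; exact z_mem_zpowers_c h

theorem card_quat_le (h : MC x y n η δ) (hn : 3 ≤ n) (w : X) (hw : w ∉ Subgroup.zpowers x)
    (hw2 : w * w = pw x n (hf n)) : Nat.card (Subgroup.closure {pw x n (qt n), w}) ≤ 8 := by
  haveI := h.finite
  have hsub : ((Subgroup.closure {pw x n (qt n), w} : Subgroup X) : Set X) ⊆
      (Subgroup.zpowers (pw x n (qt n)) : Set X) ∪
        (fun v => v * w) '' (Subgroup.zpowers (pw x n (qt n)) : Set X) := by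
    intro u hu
    rcases (mem_quat h hn w hw hw2 u).1 hu with h1 | h1
    · exact Or.inl h1
    · exact Or.inr ⟨u * w⁻¹, h1, by group⟩
  have hc4 : ((Subgroup.zpowers (pw x n (qt n)) : Subgroup X) : Set X).ncard = 4 := by
    rw [← Nat.card_coe_set_eq]
    change Nat.card (Subgroup.zpowers (pw x n (qt n))) = 4
    rw [Nat.card_zpowers, orderOf_c h]
  change Nat.card (((Subgroup.closure {pw x n (qt n), w} : Subgroup X) : Set X)) ≤ 8
  rw [Nat.card_coe_set_eq]
  calc _ ≤ _ := Set.ncard_le_ncard hsub (Set.toFinite _)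
    _ ≤ _ := Set.ncard_union_le _ _
    _ ≤ 4 + 4 := by
        have := Set.ncard_image_le (f := fun v => v * w)
          (Set.toFinite ((Subgroup.zpowers (pw x n (qt n)) : Subgroup X) : Set X))
        rw [hc4] at this ⊢
        omega

theorem quat_core (h : MC x y n η δ) (hn : 3 ≤ n) (w : X) (hw : w ∉ Subgroup.zpowers x)
    (hw2 : w * w = pw x n (hf n))
    (E : Subgroup X) (hE : E = Subgroup.closure {pw x n (qt n), w})
    (K : Subgroup (MulAut E)) (hU : autInducedBy ⊤ E ≤ K) (hK : ¬ IsPGroup 2 K) : K = ⊤ := by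
  haveI := h.finite
  subst hE
  have hz1 := z_ne_one h
  have hcE : pw x n (qt n) ∈ Subgroup.closure {pw x n (qt n), w} :=
    Subgroup.subset_closure (Set.mem_insert _ _)
  have hwE : w ∈ Subgroup.closure {pw x n (qt n), w} :=
    Subgroup.subset_closure (Set.mem_insert_of_mem _ (Set.mem_singleton _))
  have hzE : pw x n (hf n) ∈ Subgroup.closure {pw x n (qt n), w} := by
    rw [← c_mul_c h]; exact Subgroup.mul_mem _ hcE hcE
  -- the automorphism group has order at most 24
  have hA : Nat.card (MulAut (Subgroup.closure {pw x n (qt n), w})) ≤ 24 := by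
    apply card_mulAut_le_of_gen (card_quat_le h hn w hw hw2) ⟨_, hcE⟩ ⟨_, hwE⟩ ⟨_, hzE⟩
    · intro hh; exact hz1 (congrArg Subtype.val hh)
    · apply Subtype.ext; exact z_mul_z h
    · rw [Subgroup.orderOf_mk]; exact orderOf_c h
    · intro hm
      obtain ⟨k, hk⟩ := Subgroup.mem_zpowers_iff.1 hm
      apply hw
      have hk' : (pw x n (qt n)) ^ k = w := by
        have := congrArg Subtype.val hk
        simpa using this
      rw [← hk']
      exact Subgroup.zpow_mem _ (MC.pw_mem _) k
    · have := Subgroup.closure_closure_coe_preimage (k := ({pw x n (qt n), w} : Set X))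
      rw [← this]
      congr 1
      ext ⟨u, hu⟩
      simp [Subtype.ext_iff]
  -- the group induced by `X` has order at least 8
  obtain ⟨D, hD⟩ := qt_even hn
  obtain ⟨j, hj⟩ := (h.not_mem_iff w).1 hw
  have h2ε : 2 * ((2 - (η : ZMod (2 ^ n)) * hf n) * D) = hf n := by
    have h1 := two_mul_qt h.hn
    have h3 := hf_mul_qt hn
    rw [hD] at h1 h3
    linear_combination h1 - (η : ZMod (2 ^ n)) * h3
  have hεc : pw x n ((2 - (η : ZMod (2 ^ n)) * hf n) * D) ∈ Subgroup.zpowers (pw x n (qt n)) := by
    rcases (two_mul_eq_hf_iff h.hn _).1 h2ε with h1 | h1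
    · rw [h1]; exact Subgroup.mem_zpowers _
    · rw [h1, h.pw_add]
      exact Subgroup.mul_mem _ (Subgroup.mem_zpowers _) (z_mem_zpowers_c h)
  have hεE : pw x n ((2 - (η : ZMod (2 ^ n)) * hf n) * D) ∈ Subgroup.closure {pw x n (qt n), w} :=
    (Subgroup.zpowers_le.2 hcE) hεc
  have hd_c : pw x n D * pw x n (qt n) * (pw x n D)⁻¹ = pw x n (qt n) := by
    rw [← h.pw_neg, ← h.pw_add, ← h.pw_add]; congr 1; ring
  have hd_w : pw x n D * w * (pw x n D)⁻¹ = pw x n ((2 - (η : ZMod (2 ^ n)) * hf n) * D) * w := by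
    rw [hj, h.conj_pw_pwy, h.pw_mul_pwy, add_comm]
  have hdn : pw x n D ∈ Subgroup.normalizer
      ((Subgroup.closure {pw x n (qt n), w} : Subgroup X) : Set X) := by
    apply mem_normalizer_closure_pair
    rw [hd_c, hd_w]
    apply le_antisymm
    · rw [Subgroup.closure_le]
      intro v hv
      rcases hv with hv | hv
      · rw [hv]; exact hcE
      · rw [Set.mem_singleton_iff] at hv
        rw [hv]; exact Subgroup.mul_mem _ hεE hwE
    · rw [Subgroup.closure_le]
      intro v hv
      rcases hv with hv | hv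
      · rw [hv]; exact Subgroup.subset_closure (Set.mem_insert _ _)
      · rw [Set.mem_singleton_iff] at hv
        have hv' : v = (pw x n ((2 - (η : ZMod (2 ^ n)) * hf n) * D))⁻¹ *
            (pw x n ((2 - (η : ZMod (2 ^ n)) * hf n) * D) * w) := by rw [hv]; group
        rw [SetLike.mem_coe, hv']
        refine Subgroup.mul_mem _ (Subgroup.inv_mem _ ?_)
          (Subgroup.subset_closure (Set.mem_insert_of_mem _ (Set.mem_singleton _)))
        exact (Subgroup.zpowers_le.2 (Subgroup.subset_closure (Set.mem_insert _ _))) hεc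
  -- distinctness facts
  have hA1 : (pw x n (qt n))⁻¹ ≠ pw x n (qt n) := by
    intro hh
    apply hz1
    rw [← c_mul_c h]
    nth_rewrite 1 [← hh]
    exact inv_mul_cancel _
  have hA2 : pw x n (qt n) ≠ (pw x n (qt n))⁻¹ := fun hh => hA1 hh.symm
  have hB2 : w ≠ pw x n (hf n) * w := by
    intro hh
    exact hz1 (mul_right_cancel (hh.symm.trans (one_mul w).symm))
  have hC2 : w ≠ pw x n ((2 - (η : ZMod (2 ^ n)) * hf n) * D) * w := by
    intro hh
    have h1 : pw x n ((2 - (η : ZMod (2 ^ n)) * hf n) * D) = 1 :=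
      mul_right_cancel (hh.symm.trans (one_mul w).symm)
    rw [h.pw_eq_one_iff] at h1
    rw [h1, mul_zero] at h2ε
    exact hf_ne_zero h.one_le_n h2ε.symm
  have hD2 : pw x n (hf n) * w ≠ pw x n ((2 - (η : ZMod (2 ^ n)) * hf n) * D) * w := by
    intro hh
    have h1 := h.pw_injective (mul_right_cancel hh)
    rw [← h1, two_mul_hf h.one_le_n] at h2ε
    exact hf_ne_zero h.one_le_n h2ε.symm
  -- five distinct induced automorphisms
  have hQ : ({(pw x n (qt n), w), (pw x n (qt n), pw x n (hf n) * w), ((pw x n (qt n))⁻¹, w),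
      ((pw x n (qt n))⁻¹, pw x n (hf n) * w),
      (pw x n (qt n), pw x n ((2 - (η : ZMod (2 ^ n)) * hf n) * D) * w)} : Set (X × X)).ncard = 5 := by
    rw [Set.ncard_insert_of_notMem, Set.ncard_insert_of_notMem, Set.ncard_insert_of_notMem,
      Set.ncard_insert_of_notMem, Set.ncard_singleton]
    all_goals
      simp only [Set.mem_insert_iff, Set.mem_singleton_iff, Prod.mk.injEq, hA1, hA2, hB2, hC2, hD2,
        false_and, and_false, not_false_eq_true, or_self]
  have hmemP : ∀ g (hg : g ∈ Subgroup.normalizer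
      ((Subgroup.closure {pw x n (qt n), w} : Subgroup X) : Set X)),
      (g * pw x n (qt n) * g⁻¹, g * w * g⁻¹) ∈
        (fun α : MulAut (Subgroup.closure {pw x n (qt n), w}) =>
          (((α ⟨_, hcE⟩ : Subgroup.closure {pw x n (qt n), w}) : X),
            ((α ⟨_, hwE⟩ : Subgroup.closure {pw x n (qt n), w}) : X))) ''
          ((autInducedBy ⊤ (Subgroup.closure {pw x n (qt n), w}) : Subgroup _) : Set _) :=
    fun g hg => ⟨(Subgroup.closure {pw x n (qt n), w}).normalizerMonoidHom ⟨g, hg⟩,
      normalizerHom_mem_autInducedBy _ g hg, rfl⟩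
  have hEn : ∀ g ∈ Subgroup.closure {pw x n (qt n), w}, g ∈ Subgroup.normalizer
      ((Subgroup.closure {pw x n (qt n), w} : Subgroup X) : Set X) :=
    fun g hg => Subgroup.le_normalizer hg
  have hQsub : ({(pw x n (qt n), w), (pw x n (qt n), pw x n (hf n) * w), ((pw x n (qt n))⁻¹, w),
      ((pw x n (qt n))⁻¹, pw x n (hf n) * w),
      (pw x n (qt n), pw x n ((2 - (η : ZMod (2 ^ n)) * hf n) * D) * w)} : Set (X × X)) ⊆
        (fun α : MulAut (Subgroup.closure {pw x n (qt n), w}) =>
          (((α ⟨_, hcE⟩ : Subgroup.closure {pw x n (qt n), w}) : X),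
            ((α ⟨_, hwE⟩ : Subgroup.closure {pw x n (qt n), w}) : X))) ''
          ((autInducedBy ⊤ (Subgroup.closure {pw x n (qt n), w}) : Subgroup _) : Set _) := by
    intro p hp
    simp only [Set.mem_insert_iff, Set.mem_singleton_iff] at hp
    rcases hp with hp | hp | hp | hp | hp
    · have := hmemP 1 (Subgroup.one_mem _)
      rw [one_mul, one_mul, inv_one, mul_one, mul_one] at this
      rw [hp]; exact this
    · have := hmemP _ (hEn _ hcE)
      rw [c_conj_out h w hw, mul_inv_cancel_right] at this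
      rw [hp]; exact this
    · have := hmemP _ (hEn _ hwE)
      rw [out_conj_c h hn w hw, mul_inv_cancel_right] at this
      rw [hp]; exact this
    · have := hmemP _ (hEn _ (Subgroup.mul_mem _ hcE hwE))
      have e1 : pw x n (qt n) * w * pw x n (qt n) * (pw x n (qt n) * w)⁻¹ = (pw x n (qt n))⁻¹ := by
        have : pw x n (qt n) * w * pw x n (qt n) * (pw x n (qt n) * w)⁻¹ =
            pw x n (qt n) * (w * pw x n (qt n) * w⁻¹) * (pw x n (qt n))⁻¹ := by group
        rw [this, out_conj_c h hn w hw]; group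
      have e2 : pw x n (qt n) * w * w * (pw x n (qt n) * w)⁻¹ = pw x n (hf n) * w := by
        have : pw x n (qt n) * w * w * (pw x n (qt n) * w)⁻¹ =
            pw x n (qt n) * w * (pw x n (qt n))⁻¹ := by group
        rw [this, c_conj_out h w hw]
      rw [e1, e2] at this
      rw [hp]; exact this
    · have := hmemP _ hdn
      rw [hd_c, hd_w] at this
      rw [hp]; exact this
  have h5 : 5 ≤ Nat.card (autInducedBy ⊤ (Subgroup.closure {pw x n (qt n), w})) := by
    have e : Nat.card (autInducedBy ⊤ (Subgroup.closure {pw x n (qt n), w})) =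
        ((autInducedBy ⊤ (Subgroup.closure {pw x n (qt n), w}) :
          Subgroup (MulAut (Subgroup.closure {pw x n (qt n), w}))) :
            Set (MulAut (Subgroup.closure {pw x n (qt n), w}))).ncard :=
      Nat.card_coe_set_eq ((autInducedBy ⊤ (Subgroup.closure {pw x n (qt n), w}) :
          Subgroup (MulAut (Subgroup.closure {pw x n (qt n), w}))) :
            Set (MulAut (Subgroup.closure {pw x n (qt n), w})))
    rw [e, ← hQ]
    exact (Set.ncard_le_ncard hQsub (Set.toFinite _)).trans (Set.ncard_image_le (Set.toFinite _))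
  haveI : Fact (Nat.Prime 2) := ⟨Nat.prime_two⟩
  have hUp := isPGroup_autInducedBy (isPGroup_of_mc h) (Subgroup.closure {pw x n (qt n), w})
  obtain ⟨a, ha⟩ := (IsPGroup.iff_card).1 hUp
  have h8 : 8 ≤ Nat.card (autInducedBy ⊤ (Subgroup.closure {pw x n (qt n), w})) := by
    rw [ha] at h5 ⊢
    by_contra hlt
    have ha3 : a < 3 := by
      by_contra h3
      have : 2 ^ 3 ≤ 2 ^ a := Nat.pow_le_pow_right (by norm_num) (by omega)
      omega
    interval_cases a <;> omega
  have h3 := three_mul_card_le K _ hU hUp hK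
  exact Subgroup.eq_top_of_le_card K (by omega)

theorem MC.eq_top_of_quat (h : MC x y n η δ) (hn : 3 ≤ n) (w : X) (hw : w ∉ Subgroup.zpowers x)
    (hw2 : w * w = x ^ 2 ^ (n - 1))
    (K : Subgroup (MulAut ↥(Subgroup.closure {x ^ 2 ^ (n - 2), w})))
    (hU : autInducedBy ⊤ (Subgroup.closure {x ^ 2 ^ (n - 2), w}) ≤ K) (hK : ¬ IsPGroup 2 K) : K = ⊤ :=
  quat_core h hn w hw (by rw [h.pw_hf]; exact hw2) _ (by rw [h.pw_qt]) K hU hK

end mc

end Cfsg.Agent.Lib.Helper86.DSQW
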