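/-
helper86: project DSQW (S5248, helper84) - module [W-ESTR], part 1.
The non-commutative "essential candidates" `E` of a wreathed 2-group `X = Z_{2^n} ≀ Z_2`
(`E ≠ X`, `C_X(E) ≤ E`, `Aut(E)` not a 2-group, `E` non-commutative): `E` contains `x₀ = x^(2^(n-1))` and the central
involution `z₀ = (xy)^(2^(n-1))`; every automorphism of `E` fixes `z₀`; a group of automorphisms of `E` that is not a
2-group moves `x₀` out of the abelian subgroup `A = ⟨x, y⟩`.
-/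
import Mathlib
import Cfsg.Agent.Lib.Helper84.DSQW.Defs
import Cfsg.Agent.Lib.Helper38.WreathedInv
import Cfsg.Agent.Lib.Helper38.WreathedMore
import Cfsg.Agent.Lib.Helper20.WrSC2

set_option autoImplicit false

namespace Cfsg.Agent.Lib.Helper86.DSQW

open Cfsg Cfsg.FusionSystem Cfsg.Agent.Lib.Helper84.DSQW Cfsg.Agent.Lib.Helper38
open Cfsg.Agent.Lib.Helper20.WrSC

variable {X : Type*} [Group X] {x y z : X} {n : ℕ}

/-- the non-commutative essential candidates of a wreathed 2-group -/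
def WrE (E : Subgroup X) : Prop :=
  E ≠ ⊤ ∧ Subgroup.centralizer (E : Set X) ≤ E ∧ ¬ IsPGroup 2 (MulAut E) ∧ ¬ IsMulCommutative E

/-- a finite group that is not a 2-group has a non-trivial element of odd order -/
theorem exists_odd_of_not_isPGroup {G : Type*} [Group G] [Finite G] (hG : ¬ IsPGroup 2 G) :
    ∃ σ : G, σ ≠ 1 ∧ ∃ m : ℕ, Odd m ∧ σ ^ m = 1 := by
  unfold IsPGroup at hG
  push Not at hG
  obtain ⟨g, hg⟩ := hG
  have ho : orderOf g ≠ 0 := (orderOf_pos g).ne'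
  obtain ⟨k, m, hm, hkm⟩ := Nat.exists_eq_two_pow_mul_odd ho
  refine ⟨g ^ 2 ^ k, hg k, m, hm, ?_⟩
  rw [← pow_mul, ← hkm, pow_orderOf_eq_one]

/-- the same, inside a subgroup -/
theorem exists_odd_mem_of_not_isPGroup {G : Type*} [Group G] [Finite G] (K : Subgroup G)
    (hK : ¬ IsPGroup 2 K) : ∃ σ ∈ K, σ ≠ 1 ∧ ∃ m : ℕ, Odd m ∧ σ ^ m = 1 := by
  obtain ⟨σ, hσ1, m, hm, hσm⟩ := exists_odd_of_not_isPGroup hK
  refine ⟨σ, σ.2, fun hh => hσ1 (Subtype.ext hh), m, hm, ?_⟩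
  have := congrArg Subtype.val hσm
  simpa using this

theorem x0_eq : x ^ 2 ^ (n - 1) = al x y ((2 ^ (n - 1) : ℕ) : ℤ) 0 := by
  unfold al
  rw [zpow_zero, mul_one, zpow_natCast]

theorem z0_eq (h : IsWr x y z n) :
    (x * y) ^ 2 ^ (n - 1) = al x y ((2 ^ (n - 1) : ℕ) : ℤ) ((2 ^ (n - 1) : ℕ) : ℤ) := by
  rw [IsWr.xy_eq, h.al_pow]; simp

/-- explicit description of a non-commutative essential candidate (helper20's classification) -/
theorem wrE_struct (h : IsWr x y z n) (E : Subgroup X) (hE : WrE E) :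
    ∃ c : ℤ, Even c ∧ ∀ g, g ∈ E ↔ PX x y z n c g := by
  haveI := h.finite
  obtain ⟨σ, hσ1, m, hm, hσm⟩ := exists_odd_of_not_isPGroup hE.2.2.1
  rcases classify h E hE.2.1 σ m hm hσm hσ1 with hA | hc
  · exfalso
    apply hE.2.2.2
    rw [hA]
    exact ⟨⟨fun a b => Subtype.ext (h.A_comm a.2 b.2)⟩⟩
  · exact hc

theorem wrE_mem (h : IsWr x y z n) (E : Subgroup X) (hE : WrE E) :
    x ^ 2 ^ (n - 1) ∈ E ∧ (x * y) ^ 2 ^ (n - 1) ∈ E := by
  obtain ⟨c, -, hX⟩ := wrE_struct h E hE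
  constructor
  · rw [x0_eq (y := y), al_mem_iff h E c hX]; simp
  · rw [z0_eq h, al_mem_iff h E c hX]; simp

/-- the central elements of order at most 2 -/
theorem center_invol (h : IsWr x y z n) (s : X) (hs : s ∈ Subgroup.center X) (h2 : s * s = 1) :
    s = 1 ∨ s = al x y ((2 ^ (n - 1) : ℕ) : ℤ) ((2 ^ (n - 1) : ℕ) : ℤ) := by
  obtain ⟨i, rfl⟩ := (h.mem_center_iff s).1 hs
  rw [h.al_mul_al, h.al_eq_one_iff] at h2
  have h3 : ((2 ^ n : ℕ) : ℤ) ∣ 2 * i := by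
    have := h2.1; rwa [← two_mul] at this
  rw [h.N_dvd_two_mul_iff] at h3
  rcases h.dvd_or_dvd_sub h3 with h4 | h4
  · left; rw [h.al_eq_one_iff]; exact ⟨h4, h4⟩
  · right; rw [h.al_eq_al_iff]; exact ⟨h4, h4⟩

theorem z0_ne_one (h : IsWr x y z n) :
    al x y ((2 ^ (n - 1) : ℕ) : ℤ) ((2 ^ (n - 1) : ℕ) : ℤ) ≠ 1 := by
  rw [Ne, h.al_eq_one_iff]
  exact fun hh => h.not_N_dvd_M hh.1

/-- data attached to an essential candidate, in coordinates -/
structure WrEData (h : IsWr x y z n) (E : Subgroup X) (c : ℤ) : Prop where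
  hc : Even c
  hX : ∀ g, g ∈ E ↔ PX x y z n c g
  hZE : Subgroup.center X ≤ E
  ht : al x y c 0 * z ∈ E
  hx0 : al x y ((2 ^ (n - 1) : ℕ) : ℤ) 0 ∈ E
  hx0c : ¬ ((2 ^ n : ℕ) : ℤ) ∣ ((2 ^ (n - 1) : ℕ) : ℤ) - 0

theorem wrE_data (h : IsWr x y z n) (E : Subgroup X) (hE : WrE E) : ∃ c : ℤ, WrEData h E c := by
  obtain ⟨c, hc, hX⟩ := wrE_struct h E hE
  refine ⟨c, hc, hX, le_trans (Subgroup.center_le_centralizer _) hE.2.1,
    (alz_mem_iff h E c hX c 0).2 ⟨0, by ring⟩, (al_mem_iff h E c hX _ _).2 (by simp), ?_⟩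
  rw [sub_zero]; exact h.not_N_dvd_M

namespace WrEData

variable {h : IsWr x y z n} {E : Subgroup X} {c : ℤ}

/-- automorphisms preserve the center -/
theorem aut_center (d : WrEData h E c) (β : MulAut E) (g : E) :
    ((β g : E) : X) ∈ Subgroup.center X ↔ (g : X) ∈ Subgroup.center X :=
  H2iff h E c 0 d.ht _ 0 d.hx0 d.hx0c β g

/-- the elements of `E ∩ A` -/
theorem mem_A_cases (d : WrEData h E c) (g : X) (hg : g ∈ E) (hgA : g ∈ h.A) :
    g ∈ Subgroup.center X ∨ (x ^ 2 ^ (n - 1))⁻¹ * g ∈ Subgroup.center X := by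
  obtain ⟨i, j, rfl⟩ := hgA
  rw [al_mem_iff h E c d.hX] at hg
  rcases h.dvd_or_dvd_sub hg with h1 | h1
  · left; rw [h.al_mem_center_iff]; exact h1
  · right
    rw [x0_eq (y := y), h.al_inv, h.al_mul_al, h.al_mem_center_iff]
    obtain ⟨u, hu⟩ := h1
    exact ⟨u, by linear_combination hu⟩

end WrEData

theorem wrE_fix (h : IsWr x y z n) (E : Subgroup X) (hE : WrE E) (α : MulAut E) (u : E)
    (hu : (u : X) = (x * y) ^ 2 ^ (n - 1)) : ((α u : E) : X) = (x * y) ^ 2 ^ (n - 1) := by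
  obtain ⟨c, d⟩ := wrE_data h E hE
  rw [z0_eq h] at hu ⊢
  have hucen : (u : X) ∈ Subgroup.center X := by
    rw [hu, h.al_mem_center_iff]; simp
  have h1 : ((α u : E) : X) ∈ Subgroup.center X := (d.aut_center α u).2 hucen
  have huu : u * u = 1 := by
    apply Subtype.ext
    rw [Subgroup.coe_mul, hu, h.al_mul_al, Subgroup.coe_one, h.al_eq_one_iff, ← two_mul,
      h.N_dvd_two_mul_iff]
    exact ⟨dvd_rfl, dvd_rfl⟩
  have h2 : ((α u : E) : X) * ((α u : E) : X) = 1 := by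
    rw [← Subgroup.coe_mul, ← map_mul, huu, map_one, Subgroup.coe_one]
  rcases center_invol h _ h1 h2 with h3 | h3
  · exfalso
    have h4 : α u = 1 := Subtype.ext h3
    have h5 : u = 1 := by
      have := α.injective (h4.trans (map_one α).symm)
      exact this
    rw [h5, Subgroup.coe_one] at hu
    exact z0_ne_one h hu.symm
  · exact h3

theorem wrE_move (h : IsWr x y z n) (E : Subgroup X) (hE : WrE E) (K : Subgroup (MulAut E))
    (hK : ¬ IsPGroup 2 K) :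
    ∃ α ∈ K, ∃ u : E, (u : X) = x ^ 2 ^ (n - 1) ∧ ((α u : E) : X) ∉ h.A := by
  haveI := h.finite
  obtain ⟨c, d⟩ := wrE_data h E hE
  obtain ⟨σ, hσK, hσ1, m, hm, hσm⟩ := exists_odd_mem_of_not_isPGroup K hK
  by_contra hcon
  push Not at hcon
  apply hσ1
  have hx0E : x ^ 2 ^ (n - 1) ∈ E := (wrE_mem h E hE).1
  have H1 : ∀ g : E, (g : X) ∈ h.A → ((σ g : E) : X) ∈ h.A := by
    intro g hg
    rcases d.mem_A_cases g g.2 hg with h1 | h1
    · exact h.center_le_A ((d.aut_center σ g).2 h1)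
    · have e : g = ⟨x ^ 2 ^ (n - 1), hx0E⟩ * (⟨x ^ 2 ^ (n - 1), hx0E⟩⁻¹ * g) := by group
      rw [e, map_mul, Subgroup.coe_mul]
      refine h.A.mul_mem (hcon σ hσK _ rfl) (h.center_le_A ?_)
      rw [d.aut_center]
      exact h1
  have H2 : ∀ g : E, (g : X) ∈ Subgroup.center X → ((σ g : E) : X) ∈ Subgroup.center X :=
    fun g hg => (d.aut_center σ g).2 hg
  have := gp h E σ m hm hσm d.hZE c 0 d.ht H1 H2
  ext g
  rw [this g]; rfl

end Cfsg.Agent.Lib.Helper86.DSQW
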