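/-
helper86: project DSQW (S5248, helper84) - module [W-ESTR], part 2: rigidity.
For a non-commutative essential candidate `E` of a wreathed 2-group `X`: the automorphisms of `E` fixing `Z(X)`
pointwise form a normal subgroup `stabZ E` of order at most 24 containing `Aut_X(E)` (of order at least 8) and all
automorphisms of odd order; a group of automorphisms containing `Aut_X(E)` as a Sylow 2-subgroup which is not a 2-group
equals `stabZ E`.
-/
import Mathlib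
import Cfsg.Agent.Lib.Helper86.DSQW.WrEStr
import Cfsg.Agent.Lib.Helper86.DSQW.MCRigid
import Cfsg.Agent.Lib.Helper98.OddAutTwoGroups

set_option autoImplicit false

namespace Cfsg.Agent.Lib.Helper86.DSQW

open Cfsg Cfsg.FusionSystem Cfsg.Agent.Lib.Helper84.DSQW Cfsg.Agent.Lib.Helper38
open Cfsg.Agent.Lib.Helper20.WrSC

variable {X : Type*} [Group X] {x y z : X} {n : ℕ}

/-- the automorphisms of `E` fixing the elements of `Z(X)` -/
def stabZ (E : Subgroup X) : Subgroup (MulAut E) where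
  carrier := {β | ∀ u : E, (u : X) ∈ Subgroup.center X → β u = u}
  mul_mem' := by
    intro a b ha hb u hu
    rw [MulAut.mul_apply, hb u hu, ha u hu]
  one_mem' := fun u _ => rfl
  inv_mem' := by
    intro a ha u hu
    have := ha u hu
    calc a⁻¹ u = a⁻¹ (a u) := by rw [this]
      _ = u := MulAut.inv_apply_self _ _ _

theorem mem_stabZ {E : Subgroup X} (β : MulAut E) :
    β ∈ stabZ E ↔ ∀ u : E, (u : X) ∈ Subgroup.center X → β u = u := Iff.rfl

theorem autInducedBy_le_stabZ (E : Subgroup X) : autInducedBy ⊤ E ≤ stabZ E := by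
  intro α hα u hu
  obtain ⟨g, -, hg⟩ := Cfsg.Agent.Lib.Helper87.mem_autInducedBy_iff.1 hα
  apply Subtype.ext
  rw [hg, Subgroup.mem_center_iff.1 hu g]; group

section data

variable {h : IsWr x y z n} {E : Subgroup X} {c : ℤ}

theorem stabZ_normal (d : WrEData h E c) : (stabZ E).Normal := by
  constructor
  intro β hβ α u hu
  have h1 : ((α⁻¹ u : E) : X) ∈ Subgroup.center X := (d.aut_center α⁻¹ u).2 hu
  rw [MulAut.mul_apply, MulAut.mul_apply, hβ _ h1]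
  exact MulAut.apply_inv_self _ _ _

/-- central elements have order dividing `2^n` -/
theorem center_pow (h : IsWr x y z n) (s : X) (hs : s ∈ Subgroup.center X) : s ^ 2 ^ n = 1 := by
  obtain ⟨i, rfl⟩ := (h.mem_center_iff s).1 hs
  rw [h.al_pow, h.al_eq_one_iff]
  exact ⟨Dvd.intro_left _ rfl, Dvd.intro_left _ rfl⟩

/-- automorphisms of odd order fix the center pointwise -/
theorem odd_mem_stabZ (hE : WrE E) (d : WrEData h E c) (σ : MulAut E) (m : ℕ) (hm : Odd m)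
    (hσm : σ ^ m = 1) : σ ∈ stabZ E := by
  intro u hu
  refine Cfsg.Agent.Lib.Helper98.OddAut.fixes_of_fixes_involutions σ m hm hσm
    ((Subgroup.center X).subgroupOf E) ?_ ?_ ?_ n u hu ?_
  · intro a ha b _
    apply Subtype.ext
    rw [Subgroup.coe_mul, Subgroup.coe_mul]
    exact (Subgroup.mem_center_iff.1 ha (b : X)).symm
  · intro a ha
    exact (d.aut_center σ a).2 ha
  · intro a ha haa
    have ha' : (a : X) ∈ Subgroup.center X := ha
    have haa' : (a : X) * (a : X) = 1 := by rw [← Subgroup.coe_mul, haa, Subgroup.coe_one]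
    rcases center_invol h _ ha' haa' with h1 | h1
    · have : a = 1 := Subtype.ext h1
      rw [this, map_one]
    · apply Subtype.ext
      rw [← z0_eq h] at h1
      rw [wrE_fix h E hE σ a h1]
      exact h1.symm
  · apply Subtype.ext
    rw [Subgroup.coe_pow, Subgroup.coe_one]
    exact center_pow h _ hu

/-- some `2`-power of any automorphism fixes the center pointwise -/
theorem exists_pow_mem_stabZ (hE : WrE E) (d : WrEData h E c) (α : MulAut E) :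
    ∃ k : ℕ, α ^ 2 ^ k ∈ stabZ E := by
  haveI := h.finite
  have ho : orderOf α ≠ 0 := (orderOf_pos α).ne'
  obtain ⟨k, m, hm, hkm⟩ := Nat.exists_eq_two_pow_mul_odd ho
  refine ⟨k, odd_mem_stabZ hE d _ m hm ?_⟩
  rw [← pow_mul, ← hkm, pow_orderOf_eq_one]


/-! ### Counting -/

/-- `toDih` separates the cosets of the center -/
theorem toDih_eq_iff (h : IsWr x y z n) (g g' : X) :
    h.toDih g = h.toDih g' ↔ g⁻¹ * g' ∈ Subgroup.center X := by
  rw [← h.toDih_ker, MonoidHom.mem_ker, map_mul, map_inv, inv_mul_eq_one]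

theorem WrEData.toDih_mem (d : WrEData h E c) (a : X) (ha : a ∈ E) (hac : a ∉ Subgroup.center X) :
    h.toDih a ∈ ({DihedralGroup.r ((((2 ^ (n - 1) : ℕ) : ℤ) : ℤ) : ZMod (2 ^ n)),
      DihedralGroup.sr ((-c : ℤ) : ZMod (2 ^ n)),
      DihedralGroup.sr ((-c + ((2 ^ (n - 1) : ℕ) : ℤ) : ℤ) : ZMod (2 ^ n))} :
        Finset (DihedralGroup (2 ^ n))) := by
  classical
  rcases h.exists_rep a with ⟨i, j, rfl⟩ | ⟨i, j, rfl⟩
  · rw [al_mem_iff h E c d.hX] at ha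
    rw [h.al_mem_center_iff] at hac
    have h1 := (h.dvd_or_dvd_sub ha).resolve_left hac
    rw [h.toDih_al]
    have : (i : ZMod (2 ^ n)) - (j : ZMod (2 ^ n)) =
        ((((2 ^ (n - 1) : ℕ) : ℤ) : ℤ) : ZMod (2 ^ n)) := by
      rw [← Int.cast_sub]; exact IsWr.intCast_eq_of_dvd h1
    rw [this]
    exact Finset.mem_insert_self _ _
  · rw [alz_mem_iff h E c d.hX] at ha
    rw [h.toDih_alz]
    rcases h.dvd_or_dvd_sub ha with h1 | h1
    · have : (j : ZMod (2 ^ n)) - (i : ZMod (2 ^ n)) = ((-c : ℤ) : ZMod (2 ^ n)) := by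
        rw [← Int.cast_sub]; apply IsWr.intCast_eq_of_dvd
        obtain ⟨u, hu⟩ := h1
        exact ⟨-u, by linear_combination -hu⟩
      rw [this]
      exact Finset.mem_insert_of_mem (Finset.mem_insert_self _ _)
    · have : (j : ZMod (2 ^ n)) - (i : ZMod (2 ^ n)) =
          ((-c + ((2 ^ (n - 1) : ℕ) : ℤ) : ℤ) : ZMod (2 ^ n)) := by
        rw [← Int.cast_sub]; apply IsWr.intCast_eq_of_dvd
        obtain ⟨u, hu⟩ := h1
        have hN := h.N_eq
        exact ⟨-u - 1, by linear_combination -hu + hN⟩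
      rw [this]
      exact Finset.mem_insert_of_mem (Finset.mem_insert_of_mem (Finset.mem_singleton_self _))

/-- if `a = a₀ c` with `c` central and `a² = a₀²`, then `c² = 1` -/
theorem central_sq_eq_one (a₀ a : X) (hc : a₀⁻¹ * a ∈ Subgroup.center X)
    (hsq : a * a = a₀ * a₀) : (a₀⁻¹ * a) * (a₀⁻¹ * a) = 1 := by
  have hcomm := Subgroup.mem_center_iff.1 hc
  have e1 : a = a₀ * (a₀⁻¹ * a) := by group
  have e2 : a * a = (a₀ * a₀) * ((a₀⁻¹ * a) * (a₀⁻¹ * a)) := by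
    calc a * a = (a₀ * (a₀⁻¹ * a)) * (a₀ * (a₀⁻¹ * a)) := by rw [← e1]
      _ = a₀ * ((a₀⁻¹ * a) * a₀) * (a₀⁻¹ * a) := by group
      _ = a₀ * (a₀ * (a₀⁻¹ * a)) * (a₀⁻¹ * a) := by rw [← hcomm a₀]
      _ = _ := by group
  rw [hsq] at e2
  exact (mul_eq_left.1 e2.symm)

theorem WrEData.card_pairs_le [Fintype X] [DecidableEq X] (d : WrEData h E c) (s : X)
    [DecidablePred fun p : X × X => p.1 ∈ E ∧ p.2 ∈ E ∧ p.1 ∉ Subgroup.center X ∧
      p.2 ∉ Subgroup.center X ∧ h.toDih p.1 ≠ h.toDih p.2 ∧ p.1 * p.1 = 1 ∧ p.2 * p.2 = s] :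
    ((Finset.univ : Finset (X × X)).filter (fun p => p.1 ∈ E ∧ p.2 ∈ E ∧
      p.1 ∉ Subgroup.center X ∧ p.2 ∉ Subgroup.center X ∧ h.toDih p.1 ≠ h.toDih p.2 ∧
        p.1 * p.1 = 1 ∧ p.2 * p.2 = s)).card ≤ 24 := by
  classical
  set P := (Finset.univ : Finset (X × X)).filter (fun p => p.1 ∈ E ∧ p.2 ∈ E ∧
      p.1 ∉ Subgroup.center X ∧ p.2 ∉ Subgroup.center X ∧ h.toDih p.1 ≠ h.toDih p.2 ∧
        p.1 * p.1 = 1 ∧ p.2 * p.2 = s) with hP
  have hmemP : ∀ p, p ∈ P ↔ (p.1 ∈ E ∧ p.2 ∈ E ∧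
      p.1 ∉ Subgroup.center X ∧ p.2 ∉ Subgroup.center X ∧ h.toDih p.1 ≠ h.toDih p.2 ∧
        p.1 * p.1 = 1 ∧ p.2 * p.2 = s) := by
    intro p; rw [hP, Finset.mem_filter]; simp only [Finset.mem_univ, true_and]
  let f : X × X → DihedralGroup (2 ^ n) × DihedralGroup (2 ^ n) :=
    fun p => (h.toDih p.1, h.toDih p.2)
  have himg : P.image f ⊆ ({DihedralGroup.r ((((2 ^ (n - 1) : ℕ) : ℤ) : ℤ) : ZMod (2 ^ n)),
      DihedralGroup.sr ((-c : ℤ) : ZMod (2 ^ n)),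
      DihedralGroup.sr ((-c + ((2 ^ (n - 1) : ℕ) : ℤ) : ℤ) : ZMod (2 ^ n))} :
        Finset (DihedralGroup (2 ^ n))).offDiag := by
    intro v hv
    obtain ⟨p, hp, rfl⟩ := Finset.mem_image.1 hv
    rw [hmemP] at hp
    rw [Finset.mem_offDiag]
    exact ⟨d.toDih_mem p.1 hp.1 hp.2.2.1, d.toDih_mem p.2 hp.2.1 hp.2.2.2.1, hp.2.2.2.2.1⟩
  have h6 : (P.image f).card ≤ 6 := by
    refine (Finset.card_le_card himg).trans ?_
    rw [Finset.offDiag_card]
    have h3 : ({DihedralGroup.r ((((2 ^ (n - 1) : ℕ) : ℤ) : ℤ) : ZMod (2 ^ n)),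
      DihedralGroup.sr ((-c : ℤ) : ZMod (2 ^ n)),
      DihedralGroup.sr ((-c + ((2 ^ (n - 1) : ℕ) : ℤ) : ℤ) : ZMod (2 ^ n))} :
        Finset (DihedralGroup (2 ^ n))).card ≤ 3 := Finset.card_le_three
    generalize ({DihedralGroup.r ((((2 ^ (n - 1) : ℕ) : ℤ) : ℤ) : ZMod (2 ^ n)),
      DihedralGroup.sr ((-c : ℤ) : ZMod (2 ^ n)),
      DihedralGroup.sr ((-c + ((2 ^ (n - 1) : ℕ) : ℤ) : ℤ) : ZMod (2 ^ n))} :
        Finset (DihedralGroup (2 ^ n))).card = k at h3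
    interval_cases k <;> norm_num
  have hfib : ∀ v ∈ P.image f, (P.filter (fun p => f p = v)).card ≤ 4 := by
    intro v hv
    obtain ⟨p₀, hp₀, rfl⟩ := Finset.mem_image.1 hv
    rw [hmemP] at hp₀
    have hsub : P.filter (fun p => f p = f p₀) ⊆
        ((({1, al x y ((2 ^ (n - 1) : ℕ) : ℤ) ((2 ^ (n - 1) : ℕ) : ℤ)} : Finset X) ×ˢ
          ({1, al x y ((2 ^ (n - 1) : ℕ) : ℤ) ((2 ^ (n - 1) : ℕ) : ℤ)} : Finset X)).image
            (fun q => (p₀.1 * q.1, p₀.2 * q.2))) := by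
      intro p hp
      rw [Finset.mem_filter, hmemP] at hp
      obtain ⟨hpP, hpf⟩ := hp
      have hf1 : h.toDih p₀.1 = h.toDih p.1 := (congrArg Prod.fst hpf).symm
      have hf2 : h.toDih p₀.2 = h.toDih p.2 := (congrArg Prod.snd hpf).symm
      have hc1 := (toDih_eq_iff h _ _).1 hf1
      have hc2 := (toDih_eq_iff h _ _).1 hf2
      have hs1 := central_sq_eq_one p₀.1 p.1 hc1 (by rw [hpP.2.2.2.2.2.1, hp₀.2.2.2.2.2.1])
      have hs2 := central_sq_eq_one p₀.2 p.2 hc2 (by rw [hpP.2.2.2.2.2.2, hp₀.2.2.2.2.2.2])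
      rw [Finset.mem_image]
      refine ⟨(p₀.1⁻¹ * p.1, p₀.2⁻¹ * p.2), ?_, ?_⟩
      · rw [Finset.mem_product]
        constructor
        · rw [Finset.mem_insert, Finset.mem_singleton]
          exact center_invol h _ hc1 hs1
        · rw [Finset.mem_insert, Finset.mem_singleton]
          exact center_invol h _ hc2 hs2
      · apply Prod.ext
        · show p₀.1 * (p₀.1⁻¹ * p.1) = p.1
          group
        · show p₀.2 * (p₀.2⁻¹ * p.2) = p.2
          group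
    refine (Finset.card_le_card hsub).trans (Finset.card_image_le.trans ?_)
    rw [Finset.card_product]
    have h2 : (({1, al x y ((2 ^ (n - 1) : ℕ) : ℤ) ((2 ^ (n - 1) : ℕ) : ℤ)} : Finset X)).card ≤ 2 :=
      Finset.card_le_two
    calc _ ≤ 2 * 2 := Nat.mul_le_mul h2 h2
      _ = 4 := by norm_num
  calc P.card ≤ 4 * (P.image f).card := Finset.card_le_mul_card_image P 4 hfib
    _ ≤ 4 * 6 := Nat.mul_le_mul_left 4 h6
    _ = 24 := by norm_num


theorem x0_mul_x0 (h : IsWr x y z n) : x ^ 2 ^ (n - 1) * x ^ 2 ^ (n - 1) = 1 := by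
  rw [x0_eq (y := y), h.al_mul_al, h.al_eq_one_iff, ← two_mul, h.N_dvd_two_mul_iff]
  exact ⟨dvd_rfl, by simp⟩

theorem x0_mem_A (h : IsWr x y z n) : x ^ 2 ^ (n - 1) ∈ h.A := by
  rw [x0_eq (y := y)]; exact h.al_mem_A _ _

theorem x0_notMem_center (h : IsWr x y z n) : x ^ 2 ^ (n - 1) ∉ Subgroup.center X := by
  rw [x0_eq (y := y), h.al_mem_center_iff, sub_zero]; exact h.not_N_dvd_M

/-- two elements outside `A`: the quotient is in `A` -/
theorem mul_inv_mem_A (h : IsWr x y z n) (g t : X) (hg : g ∉ h.A) (ht : t ∉ h.A) :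
    g * t⁻¹ ∈ h.A := by
  obtain ⟨p, q, rfl⟩ := h.notMem_A hg
  obtain ⟨k, l, rfl⟩ := h.notMem_A ht
  rw [h.alz_inv, h.alz_mul_alz]
  exact h.al_mem_A _ _

/-- an automorphism fixing the center pointwise is determined by its values at `x₀` and `t` -/
theorem WrEData.stabZ_ext (d : WrEData h E c) (hx0E : x ^ 2 ^ (n - 1) ∈ E) (β β' : MulAut E)
    (hβ : β ∈ stabZ E) (hβ' : β' ∈ stabZ E)
    (h1 : β ⟨x ^ 2 ^ (n - 1), hx0E⟩ = β' ⟨x ^ 2 ^ (n - 1), hx0E⟩)
    (h2 : β ⟨al x y c 0 * z, d.ht⟩ = β' ⟨al x y c 0 * z, d.ht⟩) : β = β' := by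
  have hA : ∀ g : E, (g : X) ∈ h.A → β g = β' g := by
    intro g hg
    rcases d.mem_A_cases g g.2 hg with h3 | h3
    · rw [hβ g h3, hβ' g h3]
    · obtain ⟨w, hw, e⟩ : ∃ w : E, (w : X) ∈ Subgroup.center X ∧
          g = ⟨x ^ 2 ^ (n - 1), hx0E⟩ * w :=
        ⟨⟨x ^ 2 ^ (n - 1), hx0E⟩⁻¹ * g, h3, by group⟩
      calc β g = β (⟨x ^ 2 ^ (n - 1), hx0E⟩ * w) := congrArg β e
        _ = β ⟨x ^ 2 ^ (n - 1), hx0E⟩ * β w := map_mul _ _ _
        _ = β' ⟨x ^ 2 ^ (n - 1), hx0E⟩ * β' w := by rw [hβ w hw, hβ' w hw, h1]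
        _ = β' (⟨x ^ 2 ^ (n - 1), hx0E⟩ * w) := (map_mul _ _ _).symm
        _ = β' g := (congrArg β' e).symm
  ext g
  congr 1
  by_cases hg : (g : X) ∈ h.A
  · exact hA g hg
  · have hm : ((g * (⟨al x y c 0 * z, d.ht⟩ : E)⁻¹ : E) : X) ∈ h.A := by
      rw [Subgroup.coe_mul, Subgroup.coe_inv]
      exact mul_inv_mem_A h _ _ hg (h.alz_notMem_A c 0)
    obtain ⟨w, hw, e⟩ : ∃ w : E, (w : X) ∈ h.A ∧ g = w * ⟨al x y c 0 * z, d.ht⟩ :=
      ⟨g * (⟨al x y c 0 * z, d.ht⟩ : E)⁻¹, hm, by group⟩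
    calc β g = β (w * ⟨al x y c 0 * z, d.ht⟩) := congrArg β e
      _ = β w * β ⟨al x y c 0 * z, d.ht⟩ := map_mul _ _ _
      _ = β' w * β' ⟨al x y c 0 * z, d.ht⟩ := by rw [hA w hw, h2]
      _ = β' (w * ⟨al x y c 0 * z, d.ht⟩) := (map_mul _ _ _).symm
      _ = β' g := (congrArg β' e).symm

theorem card_stabZ_le (hE : WrE E) (d : WrEData h E c) : Nat.card (stabZ E) ≤ 24 := by
  classical
  haveI := h.finite
  letI : Fintype X := Fintype.ofFinite X
  have hx0E : x ^ 2 ^ (n - 1) ∈ E := (wrE_mem h E hE).1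
  set P := (Finset.univ : Finset (X × X)).filter (fun p => p.1 ∈ E ∧ p.2 ∈ E ∧
      p.1 ∉ Subgroup.center X ∧ p.2 ∉ Subgroup.center X ∧ h.toDih p.1 ≠ h.toDih p.2 ∧
        p.1 * p.1 = 1 ∧ p.2 * p.2 = (al x y c 0 * z) * (al x y c 0 * z)) with hP
  have hev : ∀ β ∈ stabZ E, (((β ⟨x ^ 2 ^ (n - 1), hx0E⟩ : E) : X),
      ((β ⟨al x y c 0 * z, d.ht⟩ : E) : X)) ∈ P := by
    intro β hβ
    rw [hP, Finset.mem_filter]
    refine ⟨Finset.mem_univ _, (β _).2, (β _).2, ?_, ?_, ?_, ?_, ?_⟩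
    · rw [d.aut_center]; exact x0_notMem_center h
    · rw [d.aut_center]; exact h.alz_notMem_center c 0
    · intro heq
      have h1 := (toDih_eq_iff h _ _).1 heq
      have h2 : (((β ((⟨x ^ 2 ^ (n - 1), hx0E⟩ : E)⁻¹ * ⟨al x y c 0 * z, d.ht⟩) : E)) : X) ∈
          Subgroup.center X := by
        rw [map_mul, map_inv, Subgroup.coe_mul, Subgroup.coe_inv]; exact h1
      rw [d.aut_center] at h2
      have h3 := h.center_le_A h2
      rw [Subgroup.coe_mul, Subgroup.coe_inv] at h3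
      have h4 : al x y c 0 * z ∈ h.A := by
        have := h.A.mul_mem (x0_mem_A h) h3
        rwa [mul_inv_cancel_left] at this
      exact h.alz_notMem_A c 0 h4
    · show ((β ⟨x ^ 2 ^ (n - 1), hx0E⟩ : E) : X) * ((β ⟨x ^ 2 ^ (n - 1), hx0E⟩ : E) : X) = 1
      rw [← Subgroup.coe_mul, ← map_mul]
      have : (⟨x ^ 2 ^ (n - 1), hx0E⟩ : E) * ⟨x ^ 2 ^ (n - 1), hx0E⟩ = 1 :=
        Subtype.ext (x0_mul_x0 h)
      rw [this, map_one, Subgroup.coe_one]
    · show ((β ⟨al x y c 0 * z, d.ht⟩ : E) : X) * ((β ⟨al x y c 0 * z, d.ht⟩ : E) : X) = _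
      rw [← Subgroup.coe_mul, ← map_mul]
      have hcen : (((⟨al x y c 0 * z, d.ht⟩ : E) * ⟨al x y c 0 * z, d.ht⟩ : E) : X) ∈
          Subgroup.center X := by
        rw [Subgroup.coe_mul]
        show al x y c 0 * z * (al x y c 0 * z) ∈ Subgroup.center X
        rw [h.alz_mul_alz, h.al_mem_center_iff]
        exact ⟨0, by ring⟩
      rw [hβ _ hcen, Subgroup.coe_mul]
  have hinj : Function.Injective (fun β : stabZ E =>
      (⟨((((β : MulAut E) ⟨x ^ 2 ^ (n - 1), hx0E⟩ : E) : X),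
        (((β : MulAut E) ⟨al x y c 0 * z, d.ht⟩ : E) : X)), hev β β.2⟩ : P)) := by
    intro β β' hbb
    have h1 : (((β : MulAut E) ⟨x ^ 2 ^ (n - 1), hx0E⟩ : E) : X) =
        (((β' : MulAut E) ⟨x ^ 2 ^ (n - 1), hx0E⟩ : E) : X) :=
      congrArg (fun p : P => p.1.1) hbb
    have h2 : (((β : MulAut E) ⟨al x y c 0 * z, d.ht⟩ : E) : X) =
        (((β' : MulAut E) ⟨al x y c 0 * z, d.ht⟩ : E) : X) :=
      congrArg (fun p : P => p.1.2) hbb
    exact Subtype.ext (d.stabZ_ext hx0E β β' β.2 β'.2 (Subtype.ext h1) (Subtype.ext h2))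
  have h1 : Nat.card (stabZ E) ≤ P.card := by
    have := Nat.card_le_card_of_injective _ hinj
    rwa [Nat.card_eq_fintype_card (α := P), Fintype.card_coe] at this
  exact h1.trans (d.card_pairs_le _)


/-! ### The automorphisms induced by `X` -/

/-- a finite 2-group with at least 5 elements has at least 8 -/
theorem eight_le_of_five_le {G : Type*} [Group G] [Finite G] (hG : IsPGroup 2 G)
    (h5 : 5 ≤ Nat.card G) : 8 ≤ Nat.card G := by
  haveI : Fact (Nat.Prime 2) := ⟨Nat.prime_two⟩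
  obtain ⟨a, ha⟩ := (IsPGroup.iff_card).1 hG
  rw [ha] at h5 ⊢
  by_contra hlt
  have ha3 : a < 3 := by
    by_contra h3
    have : 2 ^ 3 ≤ 2 ^ a := Nat.pow_le_pow_right (by norm_num) (by omega)
    omega
  interval_cases a <;> omega

theorem ncard_five {N : ℕ} (dg : DihedralGroup N) (a₁ a₂ b₁ b₂ : ZMod N) (ha : a₁ ≠ a₂)
    (hb : b₁ ≠ b₂) (h1 : dg ≠ DihedralGroup.r a₁) (h2 : dg ≠ DihedralGroup.r a₂)
    (h3 : dg ≠ DihedralGroup.sr b₁) (h4 : dg ≠ DihedralGroup.sr b₂) :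
    ({dg, DihedralGroup.r a₁, DihedralGroup.r a₂, DihedralGroup.sr b₁, DihedralGroup.sr b₂} :
      Set (DihedralGroup N)).ncard = 5 := by
  rw [Set.ncard_insert_of_notMem, Set.ncard_insert_of_notMem, Set.ncard_insert_of_notMem,
    Set.ncard_insert_of_notMem, Set.ncard_singleton]
  all_goals simp [*]

theorem cast_M_ne_zero (h : IsWr x y z n) : (((2 ^ (n - 1) : ℕ) : ℤ) : ZMod (2 ^ n)) ≠ 0 := by
  intro hh
  exact h.not_N_dvd_M ((ZMod.intCast_zmod_eq_zero_iff_dvd _ _).1 hh)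

/-- elements inducing the same automorphism of `E` lie in the same coset of the center -/
theorem WrEData.toDih_eq_of_conj_eq (hE : WrE E) (d : WrEData h E c) (g g' : X)
    (hgg : ∀ u ∈ E, g * u * g⁻¹ = g' * u * g'⁻¹) : h.toDih g = h.toDih g' := by
  rw [toDih_eq_iff]
  have hcz : g⁻¹ * g' ∈ Subgroup.centralizer (E : Set X) := by
    rw [Subgroup.mem_centralizer_iff]
    intro u hu
    have := hgg u hu
    calc u * (g⁻¹ * g') = g⁻¹ * (g * u * g⁻¹) * g' := by group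
      _ = g⁻¹ * (g' * u * g'⁻¹) * g' := by rw [this]
      _ = g⁻¹ * g' * u := by group
  have hwE : g⁻¹ * g' ∈ E := hE.2.1 hcz
  rw [← mem_center_X_iff h E c 0 d.ht _ 0 d.hx0 d.hx0c ⟨g⁻¹ * g', hwE⟩]
  rw [Subgroup.mem_center_iff]
  intro k
  apply Subtype.ext
  rw [Subgroup.coe_mul, Subgroup.coe_mul]
  exact (Subgroup.mem_centralizer_iff.1 hcz k k.2)

theorem card_autInducedBy_ge (hE : WrE E) (d : WrEData h E c) :
    8 ≤ Nat.card (autInducedBy ⊤ E) := by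
  classical
  haveI := h.finite
  have hX2 : IsPGroup 2 X := IsPGroup.of_card h.card
  apply eight_le_of_five_le (isPGroup_autInducedBy hX2 E)
  obtain ⟨g, hgN, hgE, -⟩ :=
    Subgroup.relIndex_eq_two_iff_exists_notMem_and.1 (relIndex_normalizer h E c d.hX)
  let Ψ : MulAut E → DihedralGroup (2 ^ n) := fun α =>
    if hα : ∃ g : X, ∀ u : E, ((α u : E) : X) = g * u * g⁻¹ then h.toDih hα.choose else 1
  have hΨ : ∀ g' (_ : g' ∈ Subgroup.normalizer (E : Set X)), h.toDih g' ∈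
      Ψ '' ((autInducedBy ⊤ E : Subgroup (MulAut E)) : Set (MulAut E)) := by
    intro g' hg'
    refine ⟨E.normalizerMonoidHom ⟨g', hg'⟩, normalizerHom_mem_autInducedBy E g' hg', ?_⟩
    have hex : ∃ g : X, ∀ u : E, ((E.normalizerMonoidHom ⟨g', hg'⟩ u : E) : X) = g * u * g⁻¹ :=
      ⟨g', fun u => rfl⟩
    show (if hα : ∃ g : X, ∀ u : E, ((E.normalizerMonoidHom ⟨g', hg'⟩ u : E) : X) = g * u * g⁻¹
      then h.toDih hα.choose else 1) = _
    rw [dif_pos hex]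
    apply d.toDih_eq_of_conj_eq hE
    intro u hu
    exact (hex.choose_spec ⟨u, hu⟩).symm
  have hEN : ∀ e ∈ E, e ∈ Subgroup.normalizer (E : Set X) := fun e he => Subgroup.le_normalizer he
  have he1 : al x y 0 0 ∈ E := by rw [IsWr.al_zero_zero]; exact E.one_mem
  have he4 : al x y (((2 ^ (n - 1) : ℕ) : ℤ) + c) 0 * z ∈ E :=
    (alz_mem_iff h E c d.hX _ _).2 ⟨1, by ring⟩
  have hdg : ∀ e ∈ E, h.toDih g ≠ h.toDih e := by
    intro e he heq
    have h1 := (toDih_eq_iff h _ _).1 heq.symm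
    apply hgE
    have : g = e * (e⁻¹ * g) := by group
    rw [this]
    exact E.mul_mem he (d.hZE h1)
  have h5 := ncard_five (h.toDih g) (((0 : ℤ) : ZMod (2 ^ n)) - ((0 : ℤ) : ZMod (2 ^ n)))
    (((((2 ^ (n - 1) : ℕ) : ℤ)) : ZMod (2 ^ n)) - ((0 : ℤ) : ZMod (2 ^ n)))
    (((0 : ℤ) : ZMod (2 ^ n)) - ((c : ℤ) : ZMod (2 ^ n)))
    (((0 : ℤ) : ZMod (2 ^ n)) - (((((2 ^ (n - 1) : ℕ) : ℤ) + c : ℤ)) : ZMod (2 ^ n)))
    (by
      intro hh
      apply cast_M_ne_zero h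
      simpa using hh.symm)
    (by
      intro hh
      apply cast_M_ne_zero h
      have h2 : ((((2 ^ (n - 1) : ℕ) : ℤ) + c : ℤ) : ZMod (2 ^ n)) = ((c : ℤ) : ZMod (2 ^ n)) := by
        have := congrArg (fun v => -v) hh
        simpa using this.symm
      rw [Int.cast_add] at h2
      exact add_eq_right.1 h2)
    (by rw [← h.toDih_al]; exact hdg _ he1)
    (by rw [← h.toDih_al]; exact hdg _ d.hx0)
    (by rw [← h.toDih_alz]; exact hdg _ d.ht)
    (by rw [← h.toDih_alz]; exact hdg _ he4)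
  have hsub : ({h.toDih g, DihedralGroup.r (((0 : ℤ) : ZMod (2 ^ n)) - ((0 : ℤ) : ZMod (2 ^ n))),
      DihedralGroup.r (((((2 ^ (n - 1) : ℕ) : ℤ)) : ZMod (2 ^ n)) - ((0 : ℤ) : ZMod (2 ^ n))),
      DihedralGroup.sr (((0 : ℤ) : ZMod (2 ^ n)) - ((c : ℤ) : ZMod (2 ^ n))),
      DihedralGroup.sr (((0 : ℤ) : ZMod (2 ^ n)) -
        (((((2 ^ (n - 1) : ℕ) : ℤ) + c : ℤ)) : ZMod (2 ^ n)))} : Set (DihedralGroup (2 ^ n))) ⊆
      Ψ '' ((autInducedBy ⊤ E : Subgroup (MulAut E)) : Set (MulAut E)) := by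
    intro v hv
    simp only [Set.mem_insert_iff, Set.mem_singleton_iff] at hv
    rcases hv with hv | hv | hv | hv | hv
    · rw [hv]; exact hΨ g hgN
    · rw [hv, ← h.toDih_al]; exact hΨ _ (hEN _ he1)
    · rw [hv, ← h.toDih_al]; exact hΨ _ (hEN _ d.hx0)
    · rw [hv, ← h.toDih_alz]; exact hΨ _ (hEN _ d.ht)
    · rw [hv, ← h.toDih_alz]; exact hΨ _ (hEN _ he4)
  have e : Nat.card (autInducedBy ⊤ E) =
      ((autInducedBy ⊤ E : Subgroup (MulAut E)) : Set (MulAut E)).ncard :=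
    Nat.card_coe_set_eq ((autInducedBy ⊤ E : Subgroup (MulAut E)) : Set (MulAut E))
  rw [e, ← h5]
  exact (Set.ncard_le_ncard hsub (Set.toFinite _)).trans (Set.ncard_image_le (Set.toFinite _))

/-! ### Rigidity -/

/-- a group of automorphisms containing `Aut_X(E)` which is not a 2-group contains `stabZ E` -/
theorem stabZ_le_of (hE : WrE E) (d : WrEData h E c) (K : Subgroup (MulAut E))
    (hU : autInducedBy ⊤ E ≤ K) (hK : ¬ IsPGroup 2 K) : stabZ E ≤ K := by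
  haveI := h.finite
  have hX2 : IsPGroup 2 X := IsPGroup.of_card h.card
  obtain ⟨σ, hσK, hσ1, m, hm, hσm⟩ := exists_odd_mem_of_not_isPGroup K hK
  have hσM : σ ∈ stabZ E := odd_mem_stabZ hE d σ m hm hσm
  have hnot : ¬ IsPGroup 2 (K ⊓ stabZ E : Subgroup (MulAut E)) := by
    intro hp
    obtain ⟨k, hk⟩ := hp ⟨σ, ⟨hσK, hσM⟩⟩
    have hk' : σ ^ 2 ^ k = 1 := by
      have := congrArg Subtype.val hk
      simpa using this
    exact hσ1 (Cfsg.Agent.Lib.Helper98.OddAut.eq_one_of_pow_odd_of_pow_two σ m k hm hσm hk')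
  have h3 := three_mul_card_le (K ⊓ stabZ E) (autInducedBy ⊤ E)
    (le_inf hU (autInducedBy_le_stabZ E)) (isPGroup_autInducedBy hX2 E) hnot
  have h8 := card_autInducedBy_ge hE d
  have h24 := card_stabZ_le hE d
  have heq : K ⊓ stabZ E = stabZ E := Subgroup.eq_of_le_of_card_ge inf_le_right (by omega)
  rw [← heq]; exact inf_le_left

end data

theorem wrE_rigid (h : IsWr x y z n) (E : Subgroup X) (hE : WrE E) (K₁ K₂ : Subgroup (MulAut E))
    (h₁ : autInducedBy ⊤ E ≤ K₁) (h₂ : autInducedBy ⊤ E ≤ K₂)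
    (hs : ∃ R : Sylow 2 K₁, (R : Subgroup K₁) = (autInducedBy ⊤ E).subgroupOf K₁)
    (hK₁ : ¬ IsPGroup 2 K₁) (hK₂ : ¬ IsPGroup 2 K₂) : K₁ ≤ K₂ := by
  haveI := h.finite
  haveI : Fact (Nat.Prime 2) := ⟨Nat.prime_two⟩
  obtain ⟨c, d⟩ := wrE_data h E hE
  have hM2 := stabZ_le_of hE d K₂ h₂ hK₂
  refine le_trans ?_ hM2
  haveI hnorm : (stabZ E).Normal := stabZ_normal d
  haveI : ((stabZ E).subgroupOf K₁).Normal := hnorm.subgroupOf K₁
  have hq : IsPGroup 2 (K₁ ⧸ (stabZ E).subgroupOf K₁) := by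
    intro q
    induction q using QuotientGroup.induction_on with
    | H α =>
      obtain ⟨k, hk⟩ := exists_pow_mem_stabZ hE d (α : MulAut E)
      refine ⟨k, ?_⟩
      rw [← QuotientGroup.mk_pow, QuotientGroup.eq_one_iff]
      show ((α ^ 2 ^ k : K₁) : MulAut E) ∈ stabZ E
      rw [Subgroup.coe_pow]; exact hk
  obtain ⟨b, hb⟩ := (IsPGroup.iff_card).1 hq
  have hidx : ((stabZ E).subgroupOf K₁).index = 2 ^ b := by
    rw [Subgroup.index_eq_card]; exact hb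
  obtain ⟨R, hR⟩ := hs
  have hle : (autInducedBy ⊤ E).subgroupOf K₁ ≤ (stabZ E).subgroupOf K₁ := by
    intro α hα; exact autInducedBy_le_stabZ E hα
  have hdvd : ((stabZ E).subgroupOf K₁).index ∣ ((autInducedBy ⊤ E).subgroupOf K₁).index :=
    Subgroup.index_dvd_of_le hle
  have hodd : ¬ 2 ∣ ((autInducedBy ⊤ E).subgroupOf K₁).index := by
    rw [← hR]; exact Sylow.not_dvd_index R
  have hb0 : b = 0 := by
    by_contra hb0
    apply hodd
    refine dvd_trans ?_ hdvd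
    rw [hidx]
    exact dvd_pow_self 2 hb0
  rw [hb0, pow_zero, Subgroup.index_eq_one, Subgroup.subgroupOf_eq_top] at hidx
  exact hidx


end Cfsg.Agent.Lib.Helper86.DSQW
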