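/-
helper86: project DSQW (S5248, helper84) - glue: helper87's `wr_main_of_rigid` with the rigidity statement
`wrE_rigid` of [W-ESTR] discharged.
-/
import Mathlib
import Cfsg.Agent.Lib.Helper87.DSQWWrReal
import Cfsg.Agent.Lib.Helper86.DSQW.WrERigid

set_option autoImplicit false

namespace Cfsg.Agent.Lib.Helper86.DSQW

open Cfsg Cfsg.FusionSystem Cfsg.Agent.Lib.Helper84.DSQW Cfsg.Agent.Lib.Helper38

variable {X : Type*} [Group X] {x y z : X} {n : ℕ}

/-- the rigidity hypothesis of helper87's [W-MAIN] holds -/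
theorem rigid (h : IsWr x y z n) : Cfsg.Agent.Lib.Helper87.DSQWWr.Rigid h :=
  fun E hE K₁ K₂ h₁ h₂ hs hK₁ hK₂ => wrE_rigid h E hE K₁ K₂ h₁ h₂ hs hK₁ hK₂

/-- **[W-MAIN]**: saturated fusion systems over a wreathed 2-group have at most two classes of essential subgroups
and are realizable. -/
theorem wr_main (h : IsWr x y z n) (F : FusionSystem (⊤ : Subgroup X)) (hF : F.IsSaturated 2) :
    TwoClasses F ∧ F.IsRealizable 2 :=
  Cfsg.Agent.Lib.Helper87.DSQWWr.wr_main_of_rigid h (rigid h) F hF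

end Cfsg.Agent.Lib.Helper86.DSQW
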